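import Mathlib.Algebra.IsPrimePow
import Mathlib.Algebra.Ring.Int.Parity
import Mathlib.Tactic.IntervalCases
import Mathlib.Tactic.LinearCombination
import Mathlib.Tactic.Linarith
import Mathlib.Tactic.Ring

/-!
Arithmetic for a doubly transitive group of even degree with two-point stabiliser `A₅`.
-/

set_option autoImplicit false

namespace Cfsg.Agent.H58.AFive

/-- The cases `f = e ^ 2`. -/
theorem core_sq {e m l ε C : ℤ} (he : 2 ≤ e) (hev : e % 2 = 0) (hm : m = e + 1) (hl : 1 ≤ l)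
    (hlo : l % 2 = 1) (hlm : l ≤ m) (hε : ε = 1 ∨ ε = -1 ∧ 3 ≤ l) (hne : ε = 1 → l ≠ 5)
    (hC : C = 5 * (2 * e ^ 2 + 3) ∨ C = 16 * e ^ 2 + 15 ∨ C = e ^ 2 + 15 ∨ C = 15 * (e ^ 2 + 1))
    (h : l ^ 2 * C = (4 * l + ε) * (2 * l + ε) * m ^ 2) :
    (C = 5 * (2 * e ^ 2 + 3) ∧ e = 2 ∧ l = 3 ∧ ε = -1) ∨ (C = 16 * e ^ 2 + 15 ∧ e = 30) := by
  subst hm
  have hε2 : ε = 1 ∨ ε = -1 := hε.imp id And.left
  by_cases hl1 : l = 1
  · subst hl1
    obtain rfl : ε = 1 := by omega
    rcases hC with rfl | rfl | rfl | rfl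
    · nlinarith
    · have : e * (e - 30) = 0 := by linear_combination h
      rcases mul_eq_zero.1 this with h' | h'
      · omega
      · exact Or.inr ⟨rfl, by omega⟩
    · nlinarith
    · nlinarith
  have hup : (4 * l + ε) * (2 * l + ε) * 9 ≤ 91 * l ^ 2 := by
    rcases hε2 with rfl | rfl <;> nlinarith [show 3 ≤ l by omega]
  have hlow : 55 * l ^ 2 ≤ (4 * l + ε) * (2 * l + ε) * 9 := by
    rcases hε2 with rfl | rfl <;> nlinarith [show 3 ≤ l by omega]
  have hl0 : 0 < l ^ 2 := by positivity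
  have hup' : 9 * C ≤ 91 * (e + 1) ^ 2 := by
    refine le_of_mul_le_mul_left ?_ hl0
    nlinarith [mul_le_mul_of_nonneg_right hup (sq_nonneg (e + 1))]
  have hlow' : 55 * (e + 1) ^ 2 ≤ 9 * C := by
    refine le_of_mul_le_mul_left ?_ hl0
    nlinarith [mul_le_mul_of_nonneg_right hlow (sq_nonneg (e + 1))]
  rcases hC with rfl | rfl | rfl | rfl
  · left
    by_cases hl3 : l = 3
    · subst hl3
      rcases hε2 with rfl | rfl
      · nlinarith
      · have : (e - 2) * (7 * e - 8) = 0 := by nlinarith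
        rcases mul_eq_zero.1 this with h' | h' <;> exact ⟨rfl, by omega, rfl, rfl⟩
    have h5 : (4 * l + ε) * (2 * l + ε) * 25 ≤ 231 * l ^ 2 := by
      rcases hε2 with rfl | rfl <;> nlinarith [show 5 ≤ l by omega]
    have h5' : 125 * (2 * e ^ 2 + 3) ≤ 231 * (e + 1) ^ 2 := by
      refine le_of_mul_le_mul_left ?_ hl0
      nlinarith [mul_le_mul_of_nonneg_right h5 (sq_nonneg (e + 1))]
    have he24 : e ≤ 24 := by nlinarith
    exfalso
    rcases hε2 with rfl | rfl <;> interval_cases e <;> first | omega | (interval_cases l <;> omega)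
  · exfalso
    have he4 : e ≤ 4 := by nlinarith
    rcases hε2 with rfl | rfl <;> interval_cases e <;> interval_cases l <;> omega
  · exfalso
    nlinarith
  · exfalso
    have he4 : e ≤ 4 := by nlinarith
    rcases hε2 with rfl | rfl <;> interval_cases e <;> interval_cases l <;> omega

/-- The cases `f = 2 e ^ 2 - e`. -/
theorem core_two {e m r l ε C : ℤ} (he : 2 ≤ e) (hm : m = 2 * e + 1) (hrl : m = r * l) (hr : 1 ≤ r)
    (hl : 1 ≤ l) (hlo : l % 2 = 1) (hlm : l ≤ m) (hε : ε = 1 ∨ ε = -1 ∧ 3 ≤ l)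
    (hC : C = 5 * (4 * e ^ 2 - 2 * e + 3) ∨ C = 32 * e ^ 2 - 16 * e + 15 ∨
      C = 2 * e ^ 2 - e + 15 ∨ C = 15 * (2 * e ^ 2 - e + 1))
    (h : l ^ 2 * C = (4 * l + ε) * (2 * l + ε) * m ^ 2) : False := by
  subst hm
  have hl0 : 0 < l ^ 2 := by positivity
  rcases hε with rfl | ⟨rfl, hl3⟩
  · have hlow : 8 * l ^ 2 + 6 * l ≤ (4 * l + 1) * (2 * l + 1) := by nlinarith
    have h8 : 8 * (2 * e + 1) ^ 2 ≤ C := by
      refine le_of_mul_le_mul_left ?_ hl0
      nlinarith [mul_le_mul_of_nonneg_right hlow (sq_nonneg (2 * e + 1))]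
    rcases hC with rfl | rfl | rfl | rfl <;> nlinarith
  have hlow : 55 * l ^ 2 ≤ (4 * l + -1) * (2 * l + -1) * 9 := by nlinarith
  have hlow' : 55 * (2 * e + 1) ^ 2 ≤ 9 * C := by
    refine le_of_mul_le_mul_left ?_ hl0
    nlinarith [mul_le_mul_of_nonneg_right hlow (sq_nonneg (2 * e + 1))]
  rcases hC with rfl | rfl | rfl | rfl
  · nlinarith
  · -- `r = m / l` satisfies `r * (6 m - r) = 48 e - 7`
    have h' : l ^ 2 * (r * (6 * (2 * e + 1) - r)) = l ^ 2 * (48 * e - 7) := by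
      linear_combination h - ((2 * e + 1) * (6 * l - 1) + r * l * (-1)) * hrl
    have h'' := mul_left_cancel₀ hl0.ne' h'
    have hro : r % 2 = 1 := by
      have h1 : (r * l) % 2 = 1 := by rw [← hrl]; omega
      rw [Int.mul_emod] at h1
      rcases Int.emod_two_eq r with h2 | h2
      · simp [h2] at h1
      · exact h2
    have hrm : r ≤ 2 * e + 1 := hrl ▸ le_mul_of_one_le_right (by omega) hl
    rcases lt_or_ge r 5 with h5 | h5
    · interval_cases r <;> omega
    · nlinarith [mul_nonneg (show 0 ≤ r - 5 by omega) (show 0 ≤ 6 * (2 * e + 1) - r - 5 by omega)]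
  · nlinarith
  · have h11 : l ≤ 11 := by
      by_contra hh
      have h13 : 13 ≤ l := by omega
      have : 1275 * l ^ 2 ≤ (4 * l + -1) * (2 * l + -1) * 169 := by nlinarith
      have : 1275 * (2 * e + 1) ^ 2 ≤ 169 * (15 * (2 * e ^ 2 - e + 1)) := by
        refine le_of_mul_le_mul_left ?_ hl0
        nlinarith [mul_le_mul_of_nonneg_right this (sq_nonneg (2 * e + 1))]
      nlinarith
    have he302 : e ≤ 310 := by interval_cases l <;> nlinarith
    interval_cases l <;> interval_cases e <;> omega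

set_option maxHeartbeats 1000000 in
/-- The equations of the even case leave only `12` points, apart from `f = 900`. -/
theorem even_arith {e f n r q : ℕ} (he : 2 ≤ e) (hev : Even e) (hr : 1 ≤ r) (hq : 5 ≤ q)
    (hq8 : q % 8 = 3 ∨ q % 8 = 5) (hq21 : q ≠ 21)
    (hrf : (q % 4 = 1 ∧ r * (q - 1) * (e - 1) = 4 * (f - 1)) ∨
      (q % 4 = 3 ∧ r * (q + 1) * (e - 1) = 4 * (f - 1)))
    (hH : (e - 1) * r ^ 3 * (q * (q ^ 2 - 1)) = 120 * (n - 1))
    (hf : f = e ^ 2 ∨ f + e = 2 * e ^ 2)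
    (hn : 3 * n = f * (2 * f + 1) ∨ 15 * n + f = 16 * f ^ 2 ∨ 15 * n = f * (f + 14) ∨ n = f ^ 2) :
    (e = 2 ∧ f = 4 ∧ n = 12 ∧ q = 11 ∧ r = 1) ∨ (e = 30 ∧ f = 900) := by
  have hf1 : 2 ≤ f := by rcases hf with h | h <;> nlinarith
  have hn1 : 1 ≤ n := by rcases hn with h | h | h | h <;> nlinarith
  have hq1 : 1 ≤ q ^ 2 := by nlinarith
  obtain ⟨ε, hε, hεq⟩ : ∃ ε : ℤ, (ε = 1 ∨ ε = -1) ∧ (r : ℤ) * (q - ε) * (e - 1) = 4 * (f - 1) ∧
      ((q : ℤ) % 4 = 1 → ε = 1) ∧ ((q : ℤ) % 4 = 3 → ε = -1) := by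
    rcases hrf with ⟨h4, h⟩ | ⟨h4, h⟩
    · refine ⟨1, Or.inl rfl, ?_, fun _ => rfl, fun h' => by omega⟩
      have := congrArg (fun x : ℕ => (x : ℤ)) h
      push_cast [Nat.cast_sub (show 1 ≤ q by omega), Nat.cast_sub (show 1 ≤ e by omega),
        Nat.cast_sub (show 1 ≤ f by omega)] at this
      exact this
    · refine ⟨-1, Or.inr rfl, ?_, fun h' => by omega, fun _ => rfl⟩
      have := congrArg (fun x : ℕ => (x : ℤ)) h
      push_cast [Nat.cast_sub (show 1 ≤ e by omega), Nat.cast_sub (show 1 ≤ f by omega)] at this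
      linear_combination this
  obtain ⟨hεf, hp1, hp3⟩ := hεq
  obtain ⟨l, hl⟩ : ∃ l : ℤ, (q : ℤ) = 4 * l + ε := ⟨((q : ℤ) - ε) / 4, by omega⟩
  have hlo : l % 2 = 1 := by omega
  have hl1 : 1 ≤ l := by omega
  have hε' : ε = 1 ∨ ε = -1 ∧ 3 ≤ l := by omega
  have hH' : ((e : ℤ) - 1) * r ^ 3 * (q * (q ^ 2 - 1)) = 120 * (n - 1) := by
    have := congrArg (fun x : ℕ => (x : ℤ)) hH
    push_cast [Nat.cast_sub (show 1 ≤ e by omega), Nat.cast_sub hq1, Nat.cast_sub hn1] at this
    exact this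
  have hne : ε = 1 → l ≠ 5 := by omega
  set m : ℤ := r * l with hmdef
  have hm : ((e : ℤ) - 1) * m = f - 1 := by
    rw [hl] at hεf
    have h4 : 4 * (((e : ℤ) - 1) * (r * l)) = 4 * (f - 1) := by linear_combination hεf
    exact mul_left_cancel₀ (by norm_num) h4
  have hε2 : ε * ε = 1 := by rcases hε with rfl | rfl <;> norm_num
  have hP : ((f : ℤ) - 1) * ((4 * m + ε * r) * (2 * m + ε * r)) = 15 * (n - 1) := by
    rw [hl] at hH'
    have hq2 : (4 * l + ε) ^ 2 - 1 = 8 * l * (2 * l + ε) := by linear_combination hε2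
    rw [hq2] at hH'
    rw [← hm]
    have h8 : 8 * (((e : ℤ) - 1) * m * ((4 * m + ε * r) * (2 * m + ε * r))) =
        8 * (15 * (n - 1)) := by
      linear_combination hH'
    exact mul_left_cancel₀ (by norm_num) h8
  have hml : l ≤ m := le_mul_of_one_le_left (by omega) (by exact_mod_cast hr)
  have key : ∀ C : ℤ, ((f : ℤ) - 1) * C = 15 * (n - 1) →
      l ^ 2 * C = (4 * l + ε) * (2 * l + ε) * m ^ 2 := by
    intro C hC
    rw [mul_left_cancel₀ (show (f : ℤ) - 1 ≠ 0 by omega) (hC.trans hP.symm)]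
    ring
  have hn' : 3 * (n : ℤ) = f * (2 * f + 1) ∨ 15 * (n : ℤ) + f = 16 * f ^ 2 ∨
      15 * (n : ℤ) = f * (f + 14) ∨ (n : ℤ) = f ^ 2 := by
    exact_mod_cast hn
  have hevz : (e : ℤ) % 2 = 0 := by obtain ⟨a, rfl⟩ := hev; omega
  rcases hf with hf | hf
  · have hfz : (f : ℤ) = e ^ 2 := by exact_mod_cast hf
    have hme : m = e + 1 := mul_left_cancel₀ (show (e : ℤ) - 1 ≠ 0 by omega)
      (by linear_combination hm + hfz)
    rcases hn' with h | h | h | h
    · have h2 := key _ (show ((f : ℤ) - 1) * (5 * (2 * f + 3)) = 15 * (n - 1) by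
        linear_combination -5 * h)
      rw [hfz] at h2
      rcases core_sq (by omega) hevz hme hl1 hlo hml hε' hne (Or.inl rfl) h2 with
        ⟨-, h2e, rfl, rfl⟩ | ⟨-, h30⟩
      · left
        have he2 : e = 2 := by omega
        subst he2
        have hf4 : f = 4 := by omega
        subst hf4
        refine ⟨rfl, rfl, by omega, by omega, ?_⟩
        omega
      · right
        have he30 : e = 30 := by omega
        subst he30
        exact ⟨rfl, by omega⟩
    all_goals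
      right
      suffices h30 : (e : ℤ) = 30 by
        have he30 : e = 30 := by omega
        subst he30
        exact ⟨rfl, by omega⟩
    · have h2 := key _ (show ((f : ℤ) - 1) * (16 * f + 15) = 15 * (n - 1) by
        linear_combination -h)
      rw [hfz] at h2
      rcases core_sq (by omega) hevz hme hl1 hlo hml hε' hne (Or.inr (Or.inl rfl)) h2 with h' | h'
      · exfalso; obtain ⟨h1, h2e, -, -⟩ := h'; rw [h2e] at h1; norm_num at h1
      · exact h'.2
    · have h2 := key _ (show ((f : ℤ) - 1) * (f + 15) = 15 * (n - 1) by linear_combination -h)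
      rw [hfz] at h2
      rcases core_sq (by omega) hevz hme hl1 hlo hml hε' hne (Or.inr (Or.inr (Or.inl rfl))) h2
        with h' | h'
      · exfalso; obtain ⟨h1, h2e, -, -⟩ := h'; rw [h2e] at h1; norm_num at h1
      · exact h'.2
    · have h2 := key _ (show ((f : ℤ) - 1) * (15 * (f + 1)) = 15 * (n - 1) by
        linear_combination -15 * h)
      rw [hfz] at h2
      rcases core_sq (by omega) hevz hme hl1 hlo hml hε' hne (Or.inr (Or.inr (Or.inr rfl))) h2
        with h' | h'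
      · exfalso; obtain ⟨h1, h2e, -, -⟩ := h'; rw [h2e] at h1; norm_num at h1
      · exact h'.2
  · exfalso
    have hfz : (f : ℤ) = 2 * e ^ 2 - e := by
      have : (f : ℤ) + e = 2 * e ^ 2 := by exact_mod_cast hf
      linarith
    have hme : m = 2 * e + 1 := mul_left_cancel₀ (show (e : ℤ) - 1 ≠ 0 by omega)
      (by linear_combination hm + hfz)
    refine core_two (C := (4 * m + ε * r) * (2 * m + ε * r)) (e := (e : ℤ)) (r := (r : ℤ)) (by omega) hme
      rfl (by exact_mod_cast hr) hl1 hlo hml hε' ?_ (key _ hP)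
    have hne : (f : ℤ) - 1 ≠ 0 := by omega
    rcases hn' with h | h | h | h
    · refine Or.inl (mul_left_cancel₀ hne (hP.trans ?_))
      rw [hfz] at h ⊢
      linear_combination 5 * h
    · refine Or.inr (Or.inl (mul_left_cancel₀ hne (hP.trans ?_)))
      rw [hfz] at h ⊢
      linear_combination h
    · refine Or.inr (Or.inr (Or.inl (mul_left_cancel₀ hne (hP.trans ?_))))
      rw [hfz] at h ⊢
      linear_combination h
    · refine Or.inr (Or.inr (Or.inr (mul_left_cancel₀ hne (hP.trans ?_))))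
      rw [hfz] at h ⊢
      linear_combination 15 * h

theorem not_isPrimePow_nine_hundred : ¬ IsPrimePow 900 := by
  rw [isPrimePow_nat_iff]
  rintro ⟨p, k, hp, hk, h⟩
  have h2 : p ∣ 900 := h ▸ dvd_pow_self p (by omega)
  have h3 : 2 ∣ p ^ k := by rw [h]; norm_num
  have h4 : 3 ∣ p ^ k := by rw [h]; norm_num
  have e2 := (Nat.prime_dvd_prime_iff_eq Nat.prime_two hp).1 (Nat.prime_two.dvd_of_dvd_pow h3)
  have e3 := (Nat.prime_dvd_prime_iff_eq Nat.prime_three hp).1 (Nat.prime_three.dvd_of_dvd_pow h4)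
  omega

end Cfsg.Agent.H58.AFive
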